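import Groth.Agent.Lib.UnipFix19.Reductive
import Groth.Agent.Lib.DiagGrp.FlatSubgroupScheme
import Groth.Agent.Lib.HomScheme.DiagHom
import Groth.Agent.Lib.Induce27.Neutral
import Groth.Agent.Lib.GrpSchField.GrpDim
import Groth.Agent.Lib.AffMono14.Basic
import Groth.Agent.Lib.AbTors.Degree
import Groth.Agent.Lib.AbTors.Count
import Groth.Agent.Lib.AlgGrp14.Core
import Mathlib

/-!
# Subgroups without `ℓ`-torsion of tori and of proper groups
-/

set_option autoImplicit false
set_option backward.isDefEq.respectTransparency false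
set_option maxHeartbeats 600000

universe u

open CategoryTheory CategoryTheory.Limits MonoidalCategory CartesianMonoidalCategory MonObj GrpObj AlgebraicGeometry
open GrothLib.DiagGrp

noncomputable section

namespace GrothLib.SemiAbTors5

/-- All points killed by `ℓ` are trivial. -/
def NoTors {S : Scheme.{u}} (ℓ : ℕ) (X : Over S) [GrpObj X] : Prop :=
  ∀ (Y : Over S) (h : Y ⟶ X), h ^ ℓ = 1 → h = 1

theorem NoTors.of_mono {S : Scheme.{u}} {ℓ : ℕ} {X Z : Over S} [GrpObj X] [GrpObj Z] (hX : NoTors ℓ X)
    (i : Z ⟶ X) [IsMonHom i] [Mono i] : NoTors ℓ Z := fun Y h hh => by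
  have h1 : (h ≫ i) ^ ℓ = 1 := by rw [← MonObj.pow_comp, hh, MonObj.one_comp]
  rw [← cancel_mono i, hX Y _ h1, MonObj.one_comp]

theorem NoTors.bc {S S' : Scheme.{u}} {ℓ : ℕ} {X : Over S} [GrpObj X] (hX : NoTors ℓ X) (σ : S' ⟶ S) :
    NoTors ℓ (Red.bc σ X) := fun Y h hh => by
  have h1 : ((bcPointMulEquiv σ X Y).symm h) ^ ℓ = 1 := by rw [← map_pow, hh, map_one]
  exact ((bcPointMulEquiv σ X Y).symm.map_eq_one_iff).1 (hX _ _ h1)

theorem isFinite_DS_hom (S : Scheme.{u}) (M : Type) [AddCommGroup M] [Finite M] :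
    IsFinite (Red.DS S M).hom := by
  haveI : IsFinite (Red.diag (ULift.{u} ℤ) M).hom := by
    change IsFinite (Spec.map (CommRingCat.ofHom (algebraMap (ULift.{u} ℤ) (MonoidAlgebra (ULift.{u} ℤ) (Multiplicative M)))))
    rw [IsFinite.SpecMap_iff]
    haveI : Module.Finite (ULift.{u} ℤ) (MonoidAlgebra (ULift.{u} ℤ) (Multiplicative M)) :=
      Module.Finite.equiv (MonoidAlgebra.coeffLinearEquiv (ULift.{u} ℤ)).symm
    exact RingHom.finite_algebraMap.2 ‹_›
  exact MorphismProperty.pullback_snd _ _ ‹_›

/-- The character group of a diagonalisable group without `ℓ`-torsion is finite. -/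
theorem finite_of_noTors_DS {L : Type u} [Field L] {ℓ : ℕ} (hℓ : ℓ.Prime) {M : Type} [AddCommGroup M]
    (hfg : AddGroup.FG M) (h : NoTors ℓ (Red.DS (Spec (CommRingCat.of L)) M)) : Finite M := by
  haveI : Module.Finite ℤ M := Module.Finite.iff_addGroup_fg.2 hfg
  let P : Submodule ℤ M := Ideal.span {(ℓ : ℤ)} • ⊤
  let Q := M ⧸ P
  let C := MonoidAlgebra L (Multiplicative Q)
  let p : Spec (CommRingCat.of C) ⟶ Spec (CommRingCat.of L) := Spec.map (CommRingCat.ofHom (algebraMap L C))
  let χ : Multiplicative M →* C :=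
    (MonoidAlgebra.of L (Multiplicative Q)).comp (AddMonoidHom.toMultiplicative P.mkQ.toAddMonoidHom)
  have hQ : ∀ m : M, (ℓ : ℤ) • P.mkQ m = 0 := fun m => by
    rw [← map_smul, Submodule.mkQ_apply, Submodule.Quotient.mk_eq_zero]
    exact Submodule.smul_mem_smul (Ideal.mem_span_singleton_self _) trivial
  have hχ : χ ^ ℓ = 1 := by
    refine MonoidHom.ext fun m => ?_
    change (MonoidAlgebra.of L (Multiplicative Q) (Multiplicative.ofAdd (P.mkQ m.toAdd))) ^ ℓ = 1
    rw [← map_pow, ← ofAdd_nsmul, ← natCast_zsmul, hQ, ofAdd_zero, map_one]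
  have h1 : χ = 1 := (dsPoint M p).injective (by
    rw [map_one]; exact h _ _ (by rw [← map_pow, hχ, map_one]))
  have htop : (⊤ : Submodule ℤ M) ≤ P := fun m _ => by
    have hm : MonoidAlgebra.of L (Multiplicative Q) (Multiplicative.ofAdd (P.mkQ m)) =
        MonoidAlgebra.of L (Multiplicative Q) 1 := by
      rw [map_one]; exact DFunLike.congr_fun h1 (Multiplicative.ofAdd m)
    exact (Submodule.Quotient.mk_eq_zero P).1 (congrArg Multiplicative.toAdd (MonoidAlgebra.of_injective hm))
  obtain ⟨r, hr, hr'⟩ := Submodule.exists_sub_one_mem_and_smul_eq_zero_of_fg_of_le_smul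
    (Ideal.span {(ℓ : ℤ)}) (⊤ : Submodule ℤ M) Module.Finite.fg_top htop
  have hr0 : r ≠ 0 := by
    rintro rfl
    obtain ⟨c, hc⟩ := Ideal.mem_span_singleton'.1 hr
    have : (ℓ : ℤ) ∣ 1 := ⟨-c, by rw [zero_sub] at hc; linarith⟩
    exact hℓ.one_lt.ne' (Nat.eq_one_of_dvd_one (by exact_mod_cast this))
  haveI : Module.IsTorsion ℤ M → Finite M := fun ht => by
    exact Module.finite_of_fg_torsion M ht
  exact this fun {m} => ⟨⟨r, mem_nonZeroDivisors_of_ne_zero hr0⟩, hr' m trivial⟩

/-- A closed subgroup of a torus without `ℓ`-torsion is finite. -/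
theorem isFinite_of_noTors_torus {K : Type u} [Field K] {ℓ : ℕ} (hℓ : ℓ.Prime)
    {T N : Over (Spec (CommRingCat.of K))} [GrpObj T] [GrpObj N] (hT : Red.IsTorus T)
    [LocallyOfFiniteType N.hom] (i : N ⟶ T) [IsMonHom i] [IsClosedImmersion i.left] (hN : NoTors ℓ N) :
    IsFinite N.hom := by
  haveI : IsNoetherianRing (CommRingCat.of K) := inferInstanceAs (IsNoetherianRing K)
  have hmt := isMultTypeFT_of_flat_closed N T (UnipFix19.isMultTypeFT_of_isTorus hT) i inferInstance inferInstance
    inferInstance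
  obtain ⟨S', π, -, hs, -, hloc⟩ := hasChartsFpqc_of_isMultTypeFT hmt
  obtain ⟨s', -⟩ := hs.1 (IsLocalRing.closedPoint K)
  obtain ⟨U, hU, hch⟩ := hloc s'
  let L := (U : Scheme.{u}).residueField ⟨s', hU⟩
  let σ : Spec (CommRingCat.of L) ⟶ Spec (CommRingCat.of K) :=
    (U : Scheme.{u}).fromSpecResidueField ⟨s', hU⟩ ≫ U.ι ≫ π
  obtain ⟨M, _, hM, ⟨e⟩⟩ := hch.precomp ((U : Scheme.{u}).fromSpecResidueField ⟨s', hU⟩) σ rfl
  let b : Red.bc σ N ≅ Red.DS (Spec (CommRingCat.of L)) M := (Grp.forget _).mapIso e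
  haveI : IsMonHom b.inv := e.inv.hom.isMonHom_hom
  haveI := finite_of_noTors_DS hℓ hM ((hN.bc σ).of_mono b.inv)
  haveI := isFinite_DS_hom (Spec (CommRingCat.of L)) M
  haveI : IsIso b.hom.left := inferInstanceAs (IsIso ((Over.forget _).map b.hom))
  haveI : IsFinite (Red.bc σ N).hom := by
    rw [← Over.w b.hom]; infer_instance
  haveI : Surjective σ := ⟨fun z => ⟨IsLocalRing.closedPoint L, Subsingleton.elim (α := PrimeSpectrum K) _ _⟩⟩
  haveI : Flat σ := inferInstance
  haveI : QuasiCompact σ := inferInstance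
  exact MorphismProperty.of_pullback_snd_of_descendsAlong (P := @IsFinite) (Q := EtSite.fpqcCov)
    (show EtSite.fpqcCov σ from ⟨⟨inferInstance, inferInstance⟩, inferInstance⟩) ‹IsFinite (Red.bc σ N).hom›

/-- A proper group without `ℓ`-torsion over an algebraically closed field is finite. -/
theorem isFinite_of_noTors_proper {K : Type u} [Field K] [IsAlgClosed K] {ℓ : ℕ} (hℓ : ℓ.Prime)
    (H : Over (Spec (CommRingCat.of K))) [GrpObj H] [IsProper H.hom] (hH : NoTors ℓ H) : IsFinite H.hom := by
  obtain ⟨R, _, j, _, _, _, hjs⟩ := AffMono14.exists_red H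
  haveI : Mono j := Over.mono_of_mono_left j
  haveI : IsProper R.hom := by rw [← Over.w j]; infer_instance
  haveI : Smooth R.hom := GrpSchField.smooth_of_perfectField_of_isReduced R
  obtain ⟨A, _, i, _, _, hAc, -⟩ := Induce27.exists_neutral R
  haveI : Mono i := Over.mono_of_mono_left i
  let p : ↥(𝟙_ (Over (Spec (CommRingCat.of K)))).left := IsLocalRing.closedPoint K
  let e := η[R].left p
  have hrange : Set.range i.left = connectedComponent e := by
    refine Set.Subset.antisymm ((isPreconnected_range i.left.continuous).subset_connectedComponent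
      ⟨η[A].left p, ?_⟩) ?_
    · rw [← Scheme.Hom.comp_apply, ← Over.comp_left, IsMonHom.one_hom]
    · have hcl : IsClopen (Set.range i.left) := by
        refine ⟨?_, i.left.isOpenEmbedding.isOpen_range⟩
        exact GrpSchField.isClosed_range_of_isLocallyClosed i i.left.isOpenEmbedding.isOpen_range.isLocallyClosed
      exact hcl.connectedComponent_subset ⟨η[A].left p, by
        rw [← Scheme.Hom.comp_apply, ← Over.comp_left, IsMonHom.one_hom]⟩
  haveI : IsClosedImmersion i.left :=
    IsClosedImmersion.of_isPreimmersion i.left (by rw [hrange]; exact isClosed_connectedComponent)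
  haveI : IsProper A.hom := by rw [← Over.w i]; infer_instance
  haveI : Smooth A.hom := by rw [← Over.w i]; infer_instance
  haveI : GeometricallyReduced A.hom := Rigidity.geometricallyReduced_of_smooth A.hom
  haveI : GeometricallyIntegral A.hom := Rigidity.geometricallyIntegral_of_connected A
  haveI : IsIntegral A.left := GeometricallyIntegral.isIntegral_of_subsingleton A.hom
  obtain ⟨g, hg, -⟩ := Dim.dim_closure_range_eq (𝟙 A.left) A.hom
  have hA : NoTors ℓ A := (hH.of_mono j).of_mono i
  haveI := Cube.isCommMonObj_abVar (A := A)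
  let f : A ⟶ A := 𝟙 A ^ ℓ
  haveI : IsMonHom f := Cube.isMonHom_mul_n A ℓ
  haveI : Mono f := AlgGrp14.mono_of_trivial_kernel f fun Y x hx => hA Y x (by
    rwa [AbTors.pow_comp_eq] at hx)
  haveI := AlgGrp14.isClosedImmersion_of_mono f
  haveI : Surjective f.left := Cube.surjective_pow A hℓ.ne_zero
  haveI : IsIso f.left := isIso_of_isClosedImmersion_of_surjective f.left
  have h1 := AbTors.finrank_pow A hg hℓ.ne_zero (η[A].left p)
  rw [show ((𝟙 A : A ⟶ A) ^ ℓ).left = f.left from rfl, Scheme.Hom.finrank_eq_one_of_isIso] at h1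
  have hg0 : g = 0 := by
    by_contra hne
    have := Nat.one_lt_pow (show 2 * g ≠ 0 by omega) hℓ.one_lt
    simp only [Pi.one_apply] at h1
    omega
  subst hg0
  have hcomp : topologicalKrullDim (irreducibleComponent e) = 0 := by
    rw [← GrpSchField.connectedComponent_eq_irreducibleComponent R e, ← hrange]
    exact (i.left.isOpenEmbedding.toIsEmbedding.toHomeomorph.isHomeomorph.topologicalKrullDim_eq _).symm.trans
      (hg.trans Nat.cast_zero)
  have hdim : topologicalKrullDim R.left = 0 :=
    (GrpSchField.topologicalKrullDim_component R (irreducibleComponent_mem_irreducibleComponents e)).symm.trans hcomp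
  haveI : IsLocallyNoetherian R.left := LocallyOfFiniteType.isLocallyNoetherian R.hom
  haveI : CompactSpace R.left := QuasiCompact.compactSpace_of_compactSpace R.hom
  haveI : IsNoetherian R.left := {}
  haveI : Finite R.left := by
    rw [← Set.finite_univ_iff, show (Set.univ : Set R.left) = ⋃ C ∈ irreducibleComponents R.left, C from
      (Set.eq_univ_of_forall fun z => Set.mem_biUnion
        (irreducibleComponent_mem_irreducibleComponents z) mem_irreducibleComponent).symm]
    exact TopologicalSpace.NoetherianSpace.finite_irreducibleComponents.biUnion fun C hC =>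
      (Dim.subsingleton_of_dim_eq_zero (isClosed_of_mem_irreducibleComponents C hC) hC.1
        (((GrpSchField.topologicalKrullDim_component R hC).trans hdim).le)).finite
  haveI : Finite H.left := Finite.of_surjective _ j.left.surjective
  haveI : LocallyQuasiFinite H.hom := .of_finite_preimage_singleton H.hom fun _ => Set.toFinite _
  exact IsFinite.of_isProper_of_locallyQuasiFinite H.hom

end GrothLib.SemiAbTors5
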