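import Groth.Agent.Lib.SemiAbTors5.Basic
import Groth.Agent.Lib.Rigidity.SemiAbelian
import Groth.Agent.Lib.Neutral.ArtinHom

/-!
# Closed subgroups of semi-abelian varieties without `ℓ`-torsion are finite
-/

set_option autoImplicit false
set_option backward.isDefEq.respectTransparency false
set_option maxHeartbeats 600000

universe u

open CategoryTheory CategoryTheory.Limits MonoidalCategory CartesianMonoidalCategory MonObj GrpObj AlgebraicGeometry
open GrothLib.DiagGrp

noncomputable section

namespace GrothLib.SemiAbTors5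

/-- Over an algebraically closed field. -/
theorem isFinite_of_extension {K : Type u} [Field K] [IsAlgClosed K] {ℓ : ℕ} (hℓ : ℓ.Prime)
    {T G A H : Over (Spec (CommRingCat.of K))} [GrpObj T] [GrpObj G] [GrpObj A] [GrpObj H]
    [LocallyOfFiniteType G.hom] [QuasiCompact G.hom] [IsProper A.hom] [Smooth A.hom] [ConnectedSpace A.left]
    (i : T ⟶ G) (q : G ⟶ A) [IsMonHom i] [IsClosedImmersion i.left] [IsMonHom q] [Surjective q.left] [Flat q.left]
    (hT : Red.IsTorus T) (hker : AlgGrp.IsKernel i q)
    (j : H ⟶ G) [IsMonHom j] [IsClosedImmersion j.left] (hH : NoTors ℓ H) : IsFinite H.hom := by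
  haveI : IsCommMonObj G := by
    rw [isCommMonObj_iff_isMulCommutative]
    exact fun X => ⟨⟨fun a b => Rigidity.comm_of_extension i q hT hker a b⟩⟩
  haveI : Mono i := Over.mono_of_mono_left i
  haveI : Mono j := Over.mono_of_mono_left j
  haveI : IsCommMonObj H := AlgGrp14.isCommMonObj_of_mono j
  haveI : LocallyOfFiniteType H.hom := by rw [← Over.w j]; infer_instance
  haveI : QuasiCompact H.hom := by rw [← Over.w j]; infer_instance
  let f : H ⟶ A := j ≫ q
  haveI : IsMonHom f := inferInstance
  obtain ⟨N, _, _, n, _, _, ⟨_, _⟩, hmem⟩ := AlgGrp14.exists_ker (AlgGrp14.good_of H) (AlgGrp14.good_of A) f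
  haveI : Mono n := Over.mono_of_mono_left n
  have hnf : (n ≫ j) ≫ q = 1 := by rw [Category.assoc]; exact (hmem N n).1 ⟨𝟙 N, Category.id_comp n⟩
  let l : N ⟶ T := hker.lift (n ≫ j) (toUnit _) (by rw [hnf, Hom.one_def])
  have hl : l ≫ i = n ≫ j := hker.lift_fst _ _ _
  haveI : IsMonHom l := isMonHom_of_points l fun Y a b => by
    rw [← cancel_mono i, MonObj.mul_comp (a ≫ l) (b ≫ l) i, Category.assoc, Category.assoc, Category.assoc, hl,
      MonObj.mul_comp a b (n ≫ j)]
  haveI : IsClosedImmersion l.left := by
    haveI : IsClosedImmersion (l.left ≫ i.left) := by rw [← Over.comp_left, hl, Over.comp_left]; infer_instance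
    exact IsClosedImmersion.of_comp l.left i.left
  haveI hNfin : IsFinite N.hom := isFinite_of_noTors_torus hℓ hT l (hH.of_mono n)
  haveI : DiscreteTopology ↥N.left := by
    haveI : Subsingleton ↥(Spec (CommRingCat.of K)) := inferInstanceAs (Subsingleton (PrimeSpectrum K))
    refine discreteTopology_iff_isOpen_singleton.mpr fun z => ?_
    have h1 := N.hom.isDiscrete_preimage_singleton (N.hom z)
    rw [show N.hom ⁻¹' {N.hom z} = Set.univ from Set.eq_univ_of_forall fun _ => Subsingleton.elim _ _] at h1
    haveI := isDiscrete_univ_iff.mp h1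
    exact isOpen_discrete _
  haveI : IsSeparated A.hom := inferInstance
  haveI : QuasiCompact (f.left ≫ A.hom) := by rw [Over.w f]; infer_instance
  haveI : QuasiCompact f.left := QuasiCompact.of_comp f.left A.hom
  haveI : IsFinite f.left := by
    rw [Neutral.isFinite_iff_discrete_kernel (A := K) f]
    haveI := GrpSchField.unit_isClosedImmersion A
    let Z : Over (Spec (CommRingCat.of K)) := Over.mk (pullback.fst f.left η[A].left ≫ H.hom)
    let x : Z ⟶ H := Over.homMk (pullback.fst f.left η[A].left) rfl
    have hw : pullback.snd f.left η[A].left = Z.hom := by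
      have e := congrArg (fun t => t ≫ A.hom) (pullback.condition (f := f.left) (g := η[A].left))
      simp only [Category.assoc, Over.w f] at e
      rw [show η[A].left ≫ A.hom = 𝟙 _ from Over.w η[A], Category.comp_id] at e
      exact e.symm
    have hx : x ≫ f = 1 := by
      rw [Hom.one_def]
      refine Over.OverMorphism.ext ?_
      exact pullback.condition.trans (congrArg (fun t => t ≫ η[A].left) hw)
    obtain ⟨y, hy⟩ := (hmem Z x).2 hx
    refine DiscreteTopology.of_continuous_injective y.left.continuous fun a b hab => ?_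
    have h2 : ∀ c, n.left (y.left c) = pullback.fst f.left η[A].left c := fun c => by
      rw [← Scheme.Hom.comp_apply, ← Over.comp_left, hy]; rfl
    exact (pullback.fst f.left η[A].left).isEmbedding.injective (by rw [← h2, ← h2, hab])
  haveI : IsProper H.hom := by rw [← Over.w f]; infer_instance
  exact isFinite_of_noTors_proper hℓ H hH

/-- Over any field. -/
theorem isFinite_of_semiAbelian {k : Type u} [Field k] {ℓ : ℕ} (hℓ : ℓ.Prime)
    {G H : Over (Spec (CommRingCat.of k))} [GrpObj G] [GrpObj H] [LocallyOfFiniteType G.hom] [QuasiCompact G.hom]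
    {T A : Over (Spec (CommRingCat.of (AlgebraicClosure k)))} [GrpObj T] [GrpObj A]
    [IsProper A.hom] [Smooth A.hom] [ConnectedSpace A.left]
    (i : T ⟶ Red.bc (Spec.map (CommRingCat.ofHom (algebraMap k (AlgebraicClosure k)))) G)
    (q : Red.bc (Spec.map (CommRingCat.ofHom (algebraMap k (AlgebraicClosure k)))) G ⟶ A)
    [IsMonHom i] [IsClosedImmersion i.left] [IsMonHom q] [Surjective q.left] [Flat q.left]
    (hT : Red.IsTorus T) (hker : AlgGrp.IsKernel i q)
    (j : H ⟶ G) [IsMonHom j] [IsClosedImmersion j.left] (hH : NoTors ℓ H) : IsFinite H.hom := by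
  let K := AlgebraicClosure k
  let φ : Spec (CommRingCat.of K) ⟶ Spec (CommRingCat.of k) := Spec.map (CommRingCat.ofHom (algebraMap k K))
  haveI : LocallyOfFiniteType (Red.bc φ G).hom := inferInstanceAs (LocallyOfFiniteType (pullback.snd G.hom φ))
  haveI : QuasiCompact (Red.bc φ G).hom := inferInstanceAs (QuasiCompact (pullback.snd G.hom φ))
  haveI : IsClosedImmersion ((Over.pullback φ).map j).left :=
    MorphismProperty.baseChange_map (P := @IsClosedImmersion) φ j ‹_›
  haveI : IsFinite (Red.bc φ H).hom := isFinite_of_extension hℓ i q hT hker ((Over.pullback φ).map j) (hH.bc φ)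
  haveI : Surjective φ := ⟨fun z => ⟨IsLocalRing.closedPoint K, Subsingleton.elim (α := PrimeSpectrum k) _ _⟩⟩
  haveI : Flat φ := inferInstance
  haveI : QuasiCompact φ := inferInstance
  exact MorphismProperty.of_pullback_snd_of_descendsAlong (P := @IsFinite) (Q := EtSite.fpqcCov)
    (show EtSite.fpqcCov φ from ⟨⟨inferInstance, inferInstance⟩, inferInstance⟩) ‹IsFinite (Red.bc φ H).hom›

end GrothLib.SemiAbTors5
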