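import Groth.Agent.Lib.MinNonAff15.Main
import Groth.Agent.Lib.AntiAffSmooth14.Reduced
import Groth.Agent.Lib.AlgGrp14.Core
import Groth.Agent.Lib.GrpSchField.Quot
import Groth.Agent.Lib.AlgSp.AffineDescent
import Groth.Agent.Lib.AbTors.Count
import Groth.Agent.S18067

/-!
# Powers on commutative algebraic groups are affine
-/

set_option autoImplicit false
set_option backward.isDefEq.respectTransparency false
set_option maxHeartbeats 600000

universe u

open CategoryTheory CategoryTheory.Limits MonoidalCategory CartesianMonoidalCategory MonObj GrpObj AlgebraicGeometry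

noncomputable section

namespace GrothLib.SemiAbTors5

variable {k : Type u} [Field k]

/-- A group of finite type killed by a positive integer is affine. -/
theorem isAffine_of_pow_eq_one (M : Over (Spec (CommRingCat.of k))) [GrpObj M] [LocallyOfFiniteType M.hom]
    [QuasiCompact M.hom] {n : ℕ} (hn : n ≠ 0) (h : (𝟙 M : M ⟶ M) ^ n = 1) : IsAffine M.left := by
  obtain ⟨N, _, i, _, _, hN, htriv⟩ := MinNonAff15.exists_antiAffine_subgroup M
  haveI : Mono i := Over.mono_of_mono_left i
  haveI : LocallyOfFiniteType N.hom := by rw [← Over.w i]; infer_instance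
  haveI : QuasiCompact N.hom := by rw [← Over.w i]; infer_instance
  haveI : Smooth N.hom := AntiAffSmooth14.smooth_of_isAntiAffine N hN
  have h1 : (𝟙 N : N ⟶ N) ^ n = 1 := by
    rw [← cancel_mono i, MonObj.pow_comp, Category.id_comp, MonObj.one_comp]
    rw [← Category.comp_id i, ← MonObj.comp_pow, h, MonObj.comp_one]
  obtain ⟨-, hfin⟩ := Groth.Agent.S18067.result k N hN (n : ℤ) (by exact_mod_cast hn)
  rw [zpow_natCast, h1, Hom.one_def, Over.comp_left, Over.toUnit_left] at hfin
  haveI : IsFinite (N.hom ≫ η[N].left) := hfin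
  haveI := GrpSchField.unit_isClosedImmersion N
  haveI : IsFinite N.hom := IsFinite.of_comp N.hom η[N].left
  haveI : IsAffine N.left := isAffine_of_isAffineHom N.hom
  exact htriv (MinNonAff15.isIso_hom_of_isAffine_of_antiAffine hN)

/-- `n_G` is affine. -/
theorem isAffineHom_pow (G : Over (Spec (CommRingCat.of k))) [GrpObj G] [IsCommMonObj G]
    [LocallyOfFiniteType G.hom] [QuasiCompact G.hom] {n : ℕ} (hn : n ≠ 0) :
    IsAffineHom ((𝟙 G ^ n : G ⟶ G).left) := by
  let f : G ⟶ G := 𝟙 G ^ n
  haveI : IsMonHom f := GrpDeligne.isMonHom_pow (𝟙 G) n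
  obtain ⟨Q, _, _, q, j, _, _, ⟨_, _⟩, hfl, hs, hlfp, hjc, hqj⟩ :=
    AlgGrp14.exists_image (AlgGrp14.good_of G) (AlgGrp14.good_of G) f
  obtain ⟨K, _, _, i, _, _, ⟨_, _⟩, hmem⟩ := AlgGrp14.exists_ker (AlgGrp14.good_of G) (AlgGrp14.good_of Q) q
  haveI : Mono i := Over.mono_of_mono_left i
  have hK : IsAffine K.left := by
    refine isAffine_of_pow_eq_one K hn ?_
    rw [← cancel_mono i, MonObj.pow_comp, Category.id_comp, MonObj.one_comp, ← Category.comp_id i, ← MonObj.comp_pow]
    rw [show (𝟙 G : G ⟶ G) ^ n = q ≫ j from hqj.symm, ← Category.assoc, (hmem K i).1 ⟨𝟙 K, Category.id_comp i⟩,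
      MonObj.one_comp]
  let P := pullback q η[Q]
  let i' : P ⟶ G := pullback.fst q η[Q]
  haveI : Mono i' := inferInstance
  obtain ⟨y, hy⟩ := (hmem P i').2 (by
    rw [Hom.one_def, show i' ≫ q = pullback.snd q η[Q] ≫ η[Q] from pullback.condition]
    exact congrArg (· ≫ η[Q]) (toUnit_unique _ _))
  let z : K ⟶ P := pullback.lift i (toUnit K) (by
    rw [(hmem K i).1 ⟨𝟙 K, Category.id_comp i⟩, Hom.one_def])
  have hz : z ≫ i' = i := pullback.lift_fst _ _ _
  haveI : IsIso y := ⟨z, by rw [← cancel_mono i', Category.assoc, hz, hy, Category.id_comp],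
    by rw [← cancel_mono i, Category.assoc, hy, hz, Category.id_comp]⟩
  haveI : IsIso y.left := inferInstanceAs (IsIso ((Over.forget _).map y))
  haveI : IsAffine P.left := .of_isIso y.left
  have hsq : IsPullback i' (toUnit P) q η[Q] := by
    have := IsPullback.of_hasPullback q η[Q]
    rwa [toUnit_unique (pullback.snd q η[Q]) (toUnit _)] at this
  haveI : IsAffineHom P.hom := isAffineHom_of_isAffine P.hom
  have sq := (GrpSchField.isPullback_kernelPair hsq).map (Over.forget (Spec (CommRingCat.of k)))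
  haveI : IsAffineHom (fst G P).left := (MorphismProperty.pullback_fst G.hom P.hom ‹IsAffineHom P.hom› : IsAffineHom (Limits.pullback.fst G.hom P.hom))
  haveI : IsAffineHom q.left := AlgSp.fppfDescends_isAffineHom _ _ _ _ sq.flip hfl hlfp hs ‹_›
  change IsAffineHom f.left
  rw [← hqj, Over.comp_left]
  infer_instance

end GrothLib.SemiAbTors5
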